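import Groth.Agent.L15.PushGmTorus.Torus
import Groth.Agent.L27.Acyclic0.Smooth

/-!
# The direct image of `𝔾_m` along a proper smooth scheme over a field is a torus
-/

set_option autoImplicit false
set_option backward.isDefEq.respectTransparency.types false
set_option backward.isDefEq.respectTransparency false
set_option linter.style.haveILetI false

universe u

open CategoryTheory CategoryTheory.Limits MonoidalCategory CartesianMonoidalCategory MonObj AlgebraicGeometry

noncomputable section

namespace Groth.L15.PushGmTorus

open Groth.L08.AffHull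

variable {k : Type u} [Field k] {X : Scheme.{u}} (f : X ⟶ Spec (CommRingCat.of k)) [IsProper f]

/-- Functions on the hull stay reduced over an algebraic closure. -/
theorem isReduced_hull [Smooth f] : IsReduced (closureOver k ⊗ Zh f).left := by
  let P := closureOver k
  haveI : IsReduced (pullback f P.hom) :=
    Groth.L27.Acyclic0.isReduced_pullback_of_smooth f (AlgebraicClosure k) P.hom
  haveI : IsReduced (P ⊗ Over.mk f).left := isReduced_of_isOpenImmersion (pullbackSymmetry P.hom f).hom
  haveI : IsAffine P.left := inferInstanceAs (IsAffine (Spec (CommRingCat.of (AlgebraicClosure k))))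
  haveI := isIso_appTop_whiskerLeft (Over.mk f) P
  haveI : IsAffine (P ⊗ Zh f).left := inferInstanceAs (IsAffine (pullback P.hom (Zh f).hom))
  haveI : _root_.IsReduced Γ((P ⊗ Zh f).left, ⊤) :=
    isReduced_of_injective (P ◁ rho (Over.mk f)).left.appTop.hom
      (asIso (P ◁ rho (Over.mk f)).left.appTop).commRingCatIsoToRingEquiv.injective
  exact isReduced_of_isOpenImmersion (P ⊗ Zh f).left.isoSpec.hom

/-- `f_* 𝔾_m` is represented by a torus for `f` proper smooth over a field. -/
theorem exists_isTorus [Smooth f] :
    ∃ (T : Over (Spec (CommRingCat.of k))) (_ : GrpObj T) (_ : IsCommMonObj T), Red.IsTorus T ∧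
      Nonempty (CGrpSh.pts Scheme.fppfPrecoverage T ≅ CGrpSh3.pushGm Scheme.fppfPrecoverage f) := by
  obtain ⟨R, iG, iC, q, hq, h, hiso⟩ := exists_pts_iso f
  haveI := hq
  haveI := isFinite_hull f
  haveI := isReduced_hull f
  exact ⟨R, iG, iC, isTorus_of_isWeilRes h, hiso⟩

end Groth.L15.PushGmTorus
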